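import Groth.Agent.H4DR.KFlatMod
import Mathlib.RingTheory.Finiteness.Finsupp
import Mathlib.Algebra.Module.FinitePresentation

/-!
# Complexes acyclic after tensoring with every finitely presented module are K-flat
-/

set_option autoImplicit false

universe u

open CategoryTheory CategoryTheory.Limits MonoidalCategory TensorProduct

namespace Groth.Agent.H4DR.KFlatMod

open Groth.Agent.H16Derived

variable {R : Type u} [CommRing R]

section

variable {A B C : Type u} [AddCommGroup A] [AddCommGroup B] [AddCommGroup C] [Module R A]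
  [Module R B] [Module R C] (f : A →ₗ[R] B) (g : B →ₗ[R] C)

/-- Exactness after tensoring with every module follows from the finitely presented case. -/
lemma rTensor_exact_of_fp (hgf : g.comp f = 0)
    (h : ∀ (M : Type u) [AddCommGroup M] [Module R M], Module.FinitePresentation R M →
      Function.Exact (f.rTensor M) (g.rTensor M))
    (M : Type u) [AddCommGroup M] [Module R M] : Function.Exact (f.rTensor M) (g.rTensor M) := by
  intro x
  refine ⟨fun hx => ?_, ?_⟩
  · -- lift to a finitely presented module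
    obtain ⟨x₁, hx₁⟩ := LinearMap.lTensor_surjective B
      (Finsupp.linearCombination_surjective R (v := (id : M → M)) Function.surjective_id) x
    set q : (M →₀ R) →ₗ[R] M := Finsupp.linearCombination R (id : M → M) with hq
    have hxq : g.rTensor (M →₀ R) x₁ ∈ LinearMap.ker (q.lTensor C) := by
      rw [LinearMap.mem_ker, ← LinearMap.comp_apply, LinearMap.lTensor_comp_rTensor,
        ← LinearMap.rTensor_comp_lTensor, LinearMap.comp_apply, hx₁, hx]
    have hqs : Function.Surjective q :=
      Finsupp.linearCombination_surjective R Function.surjective_id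
    have hqe : Function.Exact (LinearMap.ker q).subtype q := LinearMap.exact_subtype_ker_map q
    obtain ⟨z, hz⟩ := (lTensor_exact (M := LinearMap.ker q) C hqe hqs _).1
        (LinearMap.mem_ker.1 hxq)
    obtain ⟨N₀, hN₀, hz₀⟩ := TensorProduct.exists_finite_submodule_right_of_setFinite {z}
      (Set.finite_singleton z)
    obtain ⟨z₀, rfl⟩ := hz₀ rfl
    obtain ⟨F₀, hF₀, hx₀⟩ := TensorProduct.exists_finite_submodule_right_of_setFinite {x₁}
      (Set.finite_singleton x₁)
    obtain ⟨x₀, rfl⟩ := hx₀ rfl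
    classical
    obtain ⟨S, hS⟩ : ∃ S : Finset M, F₀ ≤ Finsupp.supported R R (S : Set M) ∧
        N₀.map (LinearMap.ker q).subtype ≤ Finsupp.supported R R (S : Set M) := by
      obtain ⟨s, hs⟩ := (Module.Finite.iff_fg.1 hF₀).sup ((Module.Finite.iff_fg.1 hN₀).map
        (LinearMap.ker q).subtype)
      refine ⟨s.biUnion fun v => v.support, ?_⟩
      have : F₀ ⊔ N₀.map (LinearMap.ker q).subtype ≤
          Finsupp.supported R R ((s.biUnion fun v => v.support : Finset M) : Set M) := by
        rw [← hs, Submodule.span_le]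
        intro v hv
        exact (Finsupp.mem_supported R v).2 fun w hw =>
          Finset.mem_coe.2 (Finset.mem_biUnion.2 ⟨v, hv, hw⟩)
      exact sup_le_iff.1 this
    let ι : ((S : Set M) →₀ R) →ₗ[R] M →₀ R := Finsupp.lmapDomain R R Subtype.val
    let r : (M →₀ R) →ₗ[R] (S : Set M) →₀ R :=
      Finsupp.lcomapDomain Subtype.val Subtype.val_injective
    have hrι : r ∘ₗ ι = LinearMap.id := LinearMap.ext fun v => by
      simp only [ι, r, LinearMap.comp_apply, Finsupp.lmapDomain_apply, LinearMap.id_apply]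
      exact Finsupp.comapDomain_mapDomain _ Subtype.val_injective v
    have hιr (v : M →₀ R) (hv : v ∈ Finsupp.supported R R (S : Set M)) : ι (r v) = v := by
      refine Finsupp.mapDomain_comapDomain _ Subtype.val_injective v ?_
      rw [Subtype.range_coe]
      exact (Finsupp.mem_supported R v).1 hv
    let iN : N₀ →ₗ[R] (S : Set M) →₀ R := r ∘ₗ (LinearMap.ker q).subtype ∘ₗ N₀.subtype
    let iF : F₀ →ₗ[R] (S : Set M) →₀ R := r ∘ₗ F₀.subtype
    have a1 : ι ∘ₗ iF = F₀.subtype := LinearMap.ext fun v => hιr _ (hS.1 v.2)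
    have a2 : ι ∘ₗ iN = (LinearMap.ker q).subtype ∘ₗ N₀.subtype :=
      LinearMap.ext fun v => hιr _ (hS.2 (Submodule.mem_map_of_mem v.2))
    have hfg : (LinearMap.range iN).FG := by
      rw [LinearMap.range_eq_map]; exact Module.Finite.fg_top.map iN
    have hfp : Module.FinitePresentation R (((S : Set M) →₀ R) ⧸ LinearMap.range iN) :=
      Module.finitePresentation_of_surjective _ (Submodule.mkQ_surjective _)
        (by rwa [Submodule.ker_mkQ])
    let φ : (((S : Set M) →₀ R) ⧸ LinearMap.range iN) →ₗ[R] M :=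
      (LinearMap.range iN).liftQ (q ∘ₗ ι) (by
        rintro - ⟨v, rfl⟩
        show q ((ι ∘ₗ iN) v) = 0
        rw [a2]
        exact LinearMap.mem_ker.1 (v : LinearMap.ker q).2)
    let y : B ⊗[R] (((S : Set M) →₀ R) ⧸ LinearMap.range iN) :=
      (((LinearMap.range iN).mkQ ∘ₗ iF).lTensor B) x₀
    have hy : g.rTensor _ y = 0 := by
      have hinj : Function.Injective (ι.lTensor C) :=
        Function.LeftInverse.injective (g := r.lTensor C) fun v => by
          rw [← LinearMap.comp_apply, ← LinearMap.lTensor_comp, hrι, LinearMap.lTensor_id]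
          rfl
      have e1 : g.rTensor _ (iF.lTensor B x₀) = iN.lTensor C z₀ := by
        apply hinj
        rw [← LinearMap.comp_apply (ι.lTensor C), LinearMap.lTensor_comp_rTensor,
          ← LinearMap.rTensor_comp_lTensor, LinearMap.comp_apply,
          ← LinearMap.lTensor_comp_apply, ← LinearMap.lTensor_comp_apply,
          a1, a2, LinearMap.lTensor_comp_apply, hz]
      show g.rTensor _ ((((LinearMap.range iN).mkQ ∘ₗ iF).lTensor B) x₀) = 0
      rw [LinearMap.lTensor_comp_apply, ← LinearMap.comp_apply (g.rTensor _),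
        LinearMap.rTensor_comp_lTensor, ← LinearMap.lTensor_comp_rTensor, LinearMap.comp_apply, e1,
        ← LinearMap.lTensor_comp_apply, LinearMap.range_mkQ_comp iN,
        LinearMap.lTensor_zero, LinearMap.zero_apply]
    obtain ⟨w, hw⟩ := (h _ hfp y).1 hy
    refine ⟨φ.lTensor A w, ?_⟩
    have e : φ.lTensor B y = q.lTensor B (F₀.subtype.lTensor B x₀) := by
      rw [← LinearMap.lTensor_comp_apply, ← LinearMap.lTensor_comp_apply, ← a1]
      rfl
    rw [← hx₁, ← e, ← hw, ← LinearMap.comp_apply (f.rTensor M), LinearMap.rTensor_comp_lTensor,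
      ← LinearMap.lTensor_comp_rTensor, LinearMap.comp_apply]
  · rintro ⟨w, rfl⟩
    rw [← LinearMap.comp_apply, ← LinearMap.rTensor_comp, hgf, LinearMap.rTensor_zero,
      LinearMap.zero_apply]

end

lemma acyclic_tensorCx (K : DRing.Cx R)
    (hK : ∀ (M : Type u) [AddCommGroup M] [Module R M], Module.FinitePresentation R M →
      (∀ i : ℤ, IsZero ((DRing.tensorCx K (ModuleCat.of R M)).homology i)))
    (M : ModuleCat.{u} R) : (DRing.tensorCx K M).Acyclic := by
  intro i
  have key (N : ModuleCat.{u} R) : (DRing.tensorCx K N).ExactAt i ↔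
      Function.Exact ((K.d (i - 1) i).hom.rTensor N) ((K.d i (i + 1)).hom.rTensor N) := by
    rw [HomologicalComplex.exactAt_iff' _ (i - 1) i (i + 1) (by simp) (by simp),
      ShortComplex.ShortExact.moduleCat_exact_iff_function_exact]
    rfl
  rw [key]
  exact rTensor_exact_of_fp _ _
    (ModuleCat.hom_ext_iff.1 (K.d_comp_d (i - 1) i (i + 1)))
    (fun N _ _ hN => (key (ModuleCat.of R N)).1 <|
      (HomologicalComplex.exactAt_iff_isZero_homology _ _).2 (hK N hN i)) M

/-- `Tot(K ⊗ E)` for `E` in one degree. -/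
lemma acyclic_tot_single (K : DRing.Cx R) (hK : ∀ M : ModuleCat.{u} R, (DRing.tensorCx K M).Acyclic)
    (E : DRing.Cx R) (a : ℤ) (hz : ∀ q, q ≠ a → IsZero (E.X q)) :
    ((KFlat.tot (bi R) K).obj E).Acyclic := by
  intro n
  let F := bi R
  let φ (p m : ℤ) (h : p + a = m) : (F.obj (K.X p)).obj (E.X a) ⟶ ((KFlat.tot F K).obj E).X m :=
    HomologicalComplex.ιMapBifunctor K E F (ComplexShape.up ℤ) p a m h
  have hφ (p m : ℤ) (h : p + a = m) : IsIso (φ p m h) := by
    let r : ((KFlat.tot F K).obj E).X m ⟶ (F.obj (K.X p)).obj (E.X a) :=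
      HomologicalComplex.mapBifunctorDesc fun p' q' h' =>
        if hq : q' = a then
          eqToHom (by
            have h2 : p' + q' = m := h'
            rw [hq, show p' = p by omega])
        else 0
    refine ⟨r, (HomologicalComplex.ι_mapBifunctorDesc _ p a h).trans (by simp), ?_⟩
    refine HomologicalComplex.mapBifunctor.hom_ext fun p' q' h' => ?_
    by_cases hq : q' = a
    · subst hq
      obtain rfl : p' = p := by
        have h2 : p' + q' = m := h'
        omega
      refine (Category.assoc _ _ _).symm.trans ?_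
      refine (congrArg (· ≫ φ p' m h) (HomologicalComplex.ι_mapBifunctorDesc _ p' q' h')).trans ?_
      simp [φ]
      exact (Category.comp_id _).symm
    · exact ((F.obj (K.X p')).map_isZero (hz q' hq)).eq_of_src _ _
  have hd (p p' m m' : ℤ) (h : p + a = m) (h' : p' + a = m') (hp : p + 1 = p') :
      φ p m h ≫ ((KFlat.tot F K).obj E).d m m' = (F.map (K.d p p')).app (E.X a) ≫ φ p' m' h' := by
    change HomologicalComplex.ιMapBifunctor K E F (ComplexShape.up ℤ) p a m h ≫
      (HomologicalComplex.mapBifunctor K E F (ComplexShape.up ℤ)).d m m' = _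
    rw [HomologicalComplex.mapBifunctor.d_eq]
    erw [Preadditive.comp_add]
    rw [HomologicalComplex.mapBifunctor.ι_D₁, HomologicalComplex.mapBifunctor.ι_D₂,
      HomologicalComplex.mapBifunctor.d₁_eq K E F _ (show (ComplexShape.up ℤ).Rel p p' from hp)
        a m' h',
      HomologicalComplex.mapBifunctor.d₂_eq' K E F _ p
        (show (ComplexShape.up ℤ).Rel a (a + 1) from rfl) m',
      ((F.obj (K.X p)).map_isZero (hz (a + 1) (by omega))).eq_of_tgt
        ((F.obj (K.X p)).map (E.d a (a + 1))) 0,
      zero_comp, smul_zero, add_zero]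
    exact one_smul _ _
  have hi : ((K.sc' (n - 1 - a) (n - a) (n + 1 - a)).map (F.flip.obj (E.X a))).Exact :=
    (HomologicalComplex.exactAt_iff' (DRing.tensorCx K (E.X a)) (n - 1 - a) (n - a) (n + 1 - a)
      (by simp; omega) (by simp; omega)).1 (hK _ _)
  rw [HomologicalComplex.exactAt_iff' _ (n - 1) n (n + 1) (by simp) (by simp)]
  have e₁ : n - 1 - a + a = n - 1 := by omega
  have e₂ : n - a + a = n := by omega
  have e₃ : n + 1 - a + a = n + 1 := by omega
  exact ShortComplex.exact_of_iso (ShortComplex.isoMk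
    (S₁ := (K.sc' (n - 1 - a) (n - a) (n + 1 - a)).map (F.flip.obj (E.X a)))
    (S₂ := ((KFlat.tot F K).obj E).sc' (n - 1) n (n + 1))
    (@asIso _ _ _ _ (φ _ _ e₁) (hφ _ _ e₁)) (@asIso _ _ _ _ (φ _ _ e₂) (hφ _ _ e₂))
    (@asIso _ _ _ _ (φ _ _ e₃) (hφ _ _ e₃))
    (hd _ _ _ _ e₁ e₂ (by omega)) (hd _ _ _ _ e₂ e₃ (by omega))) hi

lemma acyclic_tot_bounded (K : DRing.Cx R) (hK : ∀ M : ModuleCat.{u} R, (DRing.tensorCx K M).Acyclic)
    (k : ℕ) : ∀ (E : DRing.Cx R) (a : ℤ), (∀ q, q < a ∨ a + k < q → IsZero (E.X q)) →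
      ((KFlat.tot (bi R) K).obj E).Acyclic := by
  induction k with
  | zero => exact fun E a hz => acyclic_tot_single K hK E a fun q hq => hz q (by omega)
  | succ k ih =>
    intro E a hz
    have h₁ := ih (KFlat.Brutal.geq E (a + 1)) (a + 1) fun q hq => by
      by_cases h : a + 1 ≤ q
      · have := KFlat.Brutal.isIso_ι_f E (a + 1) h
        exact (hz q (by omega)).of_iso (asIso ((KFlat.Brutal.ι E (a + 1)).f q))
      · exact KFlat.Brutal.isZero_geq E _ (by omega)
    have h₃ := acyclic_tot_single K hK (cokernel (KFlat.Brutal.ι E (a + 1))) a fun q hq => by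
      rcases lt_or_gt_of_ne hq with h | h
      · exact KFlat.Brutal.isZero_cokernel' E _ (hz q (Or.inl h))
      · exact KFlat.Brutal.isZero_cokernel E _ (by omega)
    exact (KFlat.shortExact_tot (bi R) K _ fun p q =>
      ((KFlat.Brutal.splitting E (a + 1) q).some.map ((bi R).obj (K.X p))).shortExact).acyclic_X₂
        h₁ h₃

theorem isKFlat_of_acyclic_tensorCx (K : DRing.Cx R)
    (hK : ∀ M : ModuleCat.{u} R, (DRing.tensorCx K M).Acyclic) : KFlat.IsKFlat (bi R) K := by
  intro L _
  have habove (E : DRing.Cx R) (b : ℤ) (hz : ∀ q, b < q → IsZero (E.X q)) :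
      ((KFlat.tot (bi R) K).obj E).Acyclic := by
    refine KFlat.acyclic_colimit
      (KFlat.isColimitTot (F := bi R) K (KFlat.Brutal.isColimitCocone E b)) fun k => ?_
    refine acyclic_tot_bounded K hK k (KFlat.Brutal.geq E (b - k)) (b - k) fun q hq => ?_
    by_cases h : b - k ≤ q
    · have := KFlat.Brutal.isIso_ι_f E (b - k) h
      exact (hz q (by omega)).of_iso (asIso ((KFlat.Brutal.ι E (b - k)).f q))
    · exact KFlat.Brutal.isZero_geq E _ (by omega)
  have hL : ((KFlat.tot (bi R) K).obj L).Acyclic :=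
    KFlat.acyclic_colimit (KFlat.isColimitTot (F := bi R) K (KFlat.Res.isColimitTruncCocone L))
      fun j => habove _ (j : ℤ) fun q hq => show IsZero ((L.truncLE (j : ℤ)).X q) from
        CochainComplex.isZero_of_isStrictlyLE (L.truncLE (j : ℤ)) (j : ℤ) q hq
  refine KFlat.acyclic_of_iso ?_ (KFlat.acyclic_of_iso (KFlat.totFlipIso K L).symm hL)
  exact (KFlat.TotCompare.iso (G₁ := 𝟭 (ModuleCat.{u} R)) (G₂ := 𝟭 (ModuleCat.{u} R))
    (F₁ := bi R) (F₂ := (bi R).flip) L K L K (fun p q => β_ (L.X p) (K.X q))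
    (fun p q => BraidedCategory.braiding_naturality_left (L.d p (p + 1)) (K.X q))
    (fun p q => BraidedCategory.braiding_naturality_right (L.X p) (K.d q (q + 1)))).symm

end Groth.Agent.H4DR.KFlatMod
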