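import Groth.Prelude.Def_DRing2
import Groth.Prelude.Def_KFlatSite
import Groth.Agent.H16Derived.KFlat.BoundedAbove
import Groth.Agent.H16Derived.KFlat.Resolution
import Groth.Agent.H16Derived.KFlat.Cone
import Groth.Agent.H16Derived.KFlat.Generic
import Groth.Agent.H16Derived.KFlat.Single
import Groth.Agent.H16Derived.KFlat.BaseChange
import Mathlib.Algebra.Category.ModuleCat.AB
import Mathlib.Algebra.Category.ModuleCat.Monoidal.Closed
import Mathlib.RingTheory.Flat.Equalizer
import Mathlib.RingTheory.Flat.CategoryTheory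
import Mathlib.LinearAlgebra.TensorProduct.Finiteness

/-!
# K-flat complexes over a ring

`H16Derived.KFlat` specialised to `F = ⊗_R` on `ModuleCat R`.
-/

set_option autoImplicit false

universe u

open CategoryTheory CategoryTheory.Limits MonoidalCategory TensorProduct

namespace Groth.Agent.H4DR.KFlatMod

open Groth.Agent.H16Derived

variable (R : Type u) [CommRing R]

/-- The tensor bifunctor. -/
noncomputable abbrev bi : ModuleCat.{u} R ⥤ ModuleCat.{u} R ⥤ ModuleCat.{u} R :=
  curriedTensor (ModuleCat.{u} R)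

variable {R}

instance : HasExactColimitsOfShape ℕ (ModuleCat.{u} R) :=
  haveI := AB5OfSize_shrink.{0, 0, u, u} (ModuleCat.{u} R)
  AB5OfSize.ofShape ℕ

lemma iff_isKFlat (K : DRing.Cx R) :
    (∀ L : DRing.Cx R, (∀ i : ℤ, IsZero (L.homology i)) → ∀ i : ℤ, IsZero ((L ⊗ K).homology i)) ↔
      KFlat.IsKFlat (bi R) K :=
  (KFlat.isKFlat_iff_homology (bi R) K).symm

lemma isFlatObj_of_flat (b : ModuleCat.{u} R) [Module.Flat R b] : KFlat.IsFlatObj (bi R) b := by
  intro S hS
  refine { exact := Module.Flat.rTensor_shortComplex_exact b S hS.exact, mono_f := ?_, epi_g := ?_ }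
  · rw [ModuleCat.mono_iff_injective]
    exact Module.Flat.rTensor_preserves_injective_linearMap (M := b) _ hS.moduleCat_injective_f
  · rw [ModuleCat.epi_iff_surjective]
    exact LinearMap.rTensor_surjective _ hS.moduleCat_surjective_g

lemma flat_of_isFlatObj {b : ModuleCat.{u} R} (h : KFlat.IsFlatObj (bi R) b) :
    Module.Flat R b := by
  rw [Module.Flat.iff_rTensor_preserves_injective_linearMap]
  intro P N _ _ _ _ f hf
  let S : ShortComplex (ModuleCat.{u} R) :=
    ShortComplex.mk (ModuleCat.ofHom f) (ModuleCat.ofHom (LinearMap.range f).mkQ)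
      (ModuleCat.hom_ext ((Function.Exact.linearMap_comp_eq_zero (LinearMap.exact_map_mkQ_range f))))
  have hS : S.ShortExact :=
    ShortComplex.ShortExact.mk' ((ShortComplex.ShortExact.moduleCat_exact_iff_function_exact S).2
      (LinearMap.exact_map_mkQ_range f)) ((ModuleCat.mono_iff_injective _).2 hf)
      ((ModuleCat.epi_iff_surjective _).2 (Submodule.mkQ_surjective _))
  exact (h S hS).moduleCat_injective_f

lemma isFlatObj_iff (b : ModuleCat.{u} R) : KFlat.IsFlatObj (bi R) b ↔ Module.Flat R b :=
  ⟨flat_of_isFlatObj, fun _ => isFlatObj_of_flat b⟩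

/-- A short exact sequence of complexes with flat cokernel stays exact after tensoring. -/
lemma isFSES_of_flat (S : ShortComplex (DRing.Cx R)) (hS : S.ShortExact)
    (h3 : DRing.TermwiseFlat S.X₃) : KFlat.IsFSES (F := bi R) S := by
  intro a q
  have hq := hS.map_of_exact (HomologicalComplex.eval (ModuleCat.{u} R) (ComplexShape.up ℤ) q)
  set T := S.map (HomologicalComplex.eval (ModuleCat.{u} R) (ComplexShape.up ℤ) q)
  have hT : Function.Exact T.f.hom T.g.hom :=
    (ShortComplex.ShortExact.moduleCat_exact_iff_function_exact T).1 hq.exact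
  haveI : Module.Flat R T.X₃ := h3 q
  refine { exact := ?_, mono_f := ?_, epi_g := ?_ }
  · rw [ShortComplex.ShortExact.moduleCat_exact_iff_function_exact]
    exact lTensor_exact a hT hq.moduleCat_surjective_g
  · rw [ModuleCat.mono_iff_injective]
    exact LinearMap.lTensor_injective_of_exact_of_flat T.g.hom hq.moduleCat_surjective_g T.f.hom
      hq.moduleCat_injective_f hT a
  · rw [ModuleCat.epi_iff_surjective]
    exact LinearMap.lTensor_surjective _ hq.moduleCat_surjective_g

/-! ### A functorial flat cover -/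

/-- The sum of the coefficients. -/
noncomputable def aug (M : Type u) : (M →₀ R) →ₗ[R] R :=
  Finsupp.linearCombination R fun _ => (1 : R)

@[simp] lemma aug_single (M : Type u) (m : M) (r : R) : aug M (Finsupp.single m r) = r := by
  simp [aug]

lemma aug_map {M N : Type u} (f : M → N) (x : M →₀ R) :
    aug N (Finsupp.lmapDomain R R f x) = aug M x := by
  induction x using Finsupp.induction_linear with
  | zero => simp
  | add x y hx hy => simp only [map_add, hx, hy]
  | single m r => simp

lemma mapDomain_const {M N : Type u} (n : N) (x : M →₀ R) :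
    Finsupp.lmapDomain R R (fun _ => n) x = Finsupp.single n (aug M x) := by
  induction x using Finsupp.induction_linear with
  | zero => simp
  | add x y hx hy => simp only [map_add, hx, hy, Finsupp.single_add]
  | single m r => simp

variable (R) in
/-- The augmentation kernel of the free module on the underlying set, a functorial flat cover. -/
noncomputable def Φ : ModuleCat.{u} R ⥤ ModuleCat.{u} R where
  obj M := ModuleCat.of R (LinearMap.ker (aug (R := R) M))
  map {M N} f := ModuleCat.ofHom <|
    ((Finsupp.lmapDomain R R fun m => f.hom m).comp (LinearMap.ker (aug (R := R) M)).subtype).codRestrict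
      (LinearMap.ker (aug (R := R) N))
      fun x => LinearMap.mem_ker.2 ((aug_map (fun m => f.hom m) x.1).trans (LinearMap.mem_ker.1 x.2))
  map_id M := by
    refine ModuleCat.hom_ext (LinearMap.ext fun x => Subtype.ext ?_)
    obtain ⟨x, hx⟩ := x
    show Finsupp.lmapDomain R R (id : M → M) x = x
    exact Finsupp.mapDomain_id
  map_comp {M N P} f g := by
    refine ModuleCat.hom_ext (LinearMap.ext fun x => Subtype.ext ?_)
    obtain ⟨x, hx⟩ := x
    show Finsupp.lmapDomain R R ((fun m => g.hom m) ∘ (fun m => f.hom m)) x = _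
    exact Finsupp.mapDomain_comp

instance : (Φ R).PreservesZeroMorphisms where
  map_zero M N := by
    refine ModuleCat.hom_ext (LinearMap.ext fun x => Subtype.ext ?_)
    obtain ⟨x, hx⟩ := x
    show Finsupp.lmapDomain R R (fun _ => (0 : N)) x = 0
    rw [mapDomain_const, LinearMap.mem_ker.1 hx, Finsupp.single_zero]

variable (R) in
/-- The covering map. -/
noncomputable def π : Φ R ⟶ 𝟭 (ModuleCat.{u} R) where
  app M := ModuleCat.ofHom ((Finsupp.linearCombination R (id : M → M)).comp (LinearMap.ker (aug (R := R) M)).subtype)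
  naturality {M N} f := by
    refine ModuleCat.hom_ext (LinearMap.ext fun x => ?_)
    obtain ⟨x, hx⟩ := x
    show Finsupp.linearCombination R id (Finsupp.lmapDomain R R (fun m => f.hom m) x) =
      f.hom (Finsupp.linearCombination R id x)
    clear hx
    induction x using Finsupp.induction_linear with
    | zero => simp
    | add a b ha hb => simp only [map_add, ha, hb]
    | single m r => simp

instance (M : ModuleCat.{u} R) : Epi ((π R).app M) := by
  rw [ModuleCat.epi_iff_surjective]
  intro (m : M)
  refine ⟨⟨Finsupp.single m 1 - Finsupp.single (0 : M) 1, by simp⟩, ?_⟩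
  show Finsupp.linearCombination R id (Finsupp.single m (1 : R) - Finsupp.single (0 : M) 1) = m
  simp

lemma isFlatObj_Φ (M : ModuleCat.{u} R) : KFlat.IsFlatObj (bi R) ((Φ R).obj M) := by
  haveI : Module.Projective R ((Φ R).obj M) := by
    refine Module.Projective.of_split (LinearMap.ker (aug (R := R) M)).subtype
      ((LinearMap.id - (Finsupp.lsingle (0 : M)).comp (aug (R := R) M)).codRestrict _
        fun x => by simp) (LinearMap.ext fun x => Subtype.ext ?_)
    obtain ⟨x, hx⟩ := x
    show x - Finsupp.single (0 : M) (aug M x) = x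
    rw [LinearMap.mem_ker.1 hx, Finsupp.single_zero, sub_zero]
  exact isFlatObj_of_flat _

/-! ### Consequences -/

theorem isKFlat_of_boundedAbove (P : DRing.Cx R) (b : ℤ) (hb : DRing.VanishesAbove P b)
    (hP : DRing.TermwiseFlat P) : KFlat.IsKFlat (bi R) P :=
  KFlat.isKFlat_of_boundedAbove P b hb fun q => (isFlatObj_iff _).2 (hP q)

/-- The resolution. -/
noncomputable def resMap (M : DRing.Cx R) : (KFlat.Res.P (Φ R) (π R)).obj M ⟶ M :=
  (KFlat.Res.ψ (Φ R) (π R)).app M

lemma isKFlat_res (M : DRing.Cx R) : KFlat.IsKFlat (bi R) ((KFlat.Res.P (Φ R) (π R)).obj M) :=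
  KFlat.Res.isKFlat_P (F := bi R) isFlatObj_Φ M

lemma termwiseFlat_res (M : DRing.Cx R) : DRing.TermwiseFlat ((KFlat.Res.P (Φ R) (π R)).obj M) :=
  fun q => (isFlatObj_iff _).1 (KFlat.Res.isFlatObj_P (F := bi R) isFlatObj_Φ M q)

instance quasiIso_resMap (M : DRing.Cx R) : QuasiIso (resMap M) :=
  (KFlat.Res.quasiIso_ψ_app M).1

lemma surjective_resMap (M : DRing.Cx R) (i : ℤ) : Function.Surjective ((resMap M).f i) :=
  (ModuleCat.epi_iff_surjective _).1 ((KFlat.Res.quasiIso_ψ_app M).2 i)

lemma isKFlat_flip {K : DRing.Cx R} (h : KFlat.IsKFlat (bi R) K) :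
    KFlat.IsKFlat (bi R).flip K := fun L hL => by
  refine KFlat.acyclic_of_iso ?_ (h L hL)
  exact (KFlat.TotCompare.iso (G₁ := 𝟭 (ModuleCat.{u} R)) (G₂ := 𝟭 (ModuleCat.{u} R))
    (F₁ := bi R) (F₂ := (bi R).flip) L K L K (fun p q => β_ (L.X p) (K.X q))
    (fun p q => BraidedCategory.braiding_naturality_left (L.d p (p + 1)) (K.X q))
    (fun p q => BraidedCategory.braiding_naturality_right (L.X p) (K.d q (q + 1))))

theorem exists_resolution (M : DRing.Cx R) :
    ∃ (P : DRing.Cx R) (r : P ⟶ M), KFlat.IsKFlat (bi R) P ∧ DRing.TermwiseFlat P ∧ QuasiIso r ∧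
      ∀ i : ℤ, Function.Surjective (r.f i) :=
  ⟨_, resMap M, isKFlat_res M, termwiseFlat_res M, inferInstance, surjective_resMap M⟩

theorem quasiIso_whiskerRight {K L₁ L₂ : DRing.Cx R} (h : KFlat.IsKFlat (bi R) K) (f : L₁ ⟶ L₂)
    [QuasiIso f] : QuasiIso (f ▷ K) := by
  have h' := KFlat.quasiIso_left_map (bi R) f h
  have e : ((bi R).map₂CochainComplex.map f).app K = f ▷ K := rfl
  rwa [e] at h'

theorem quasiIso_whiskerLeft {P Q : DRing.Cx R} (α : P ⟶ Q) [QuasiIso α]
    (hP : KFlat.IsKFlat (bi R) P) (hQ : KFlat.IsKFlat (bi R) Q) (L : DRing.Cx R) :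
    QuasiIso (L ◁ α) := by
  obtain ⟨P', r, hP', -, hr, -⟩ := exists_resolution L
  exact KFlat.quasiIso_tot_map_of_resolution (bi R) α hP hQ r (isKFlat_flip hP')

end Groth.Agent.H4DR.KFlatMod
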